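import Mathlib.Algebra.MonoidAlgebra.Basic
import Mathlib.LinearAlgebra.LinearIndependent.Basic
import Mathlib.LinearAlgebra.Dual.Lemmas
import Mathlib.RingTheory.TensorProduct.Maps
import Mathlib.RingTheory.Ideal.Maps

/-! # Group-like spanning families in a quotient of a monoid algebra -/

set_option autoImplicit false
universe u v

open TensorProduct

noncomputable section

namespace Groth.Agent.TorusStab19

variable {K R : Type u} [Field K] [CommRing R] [Algebra K R] {G : Type v} [CommMonoid G]

/-- Distinct nonzero group-like elements are linearly independent. -/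
theorem linearIndepOn_range_of_grouplike (u : G →* R) (Δ : R →ₐ[K] R ⊗[K] R)
    (hΔ : ∀ g, Δ (u g) = u g ⊗ₜ u g) (hu : ∀ g, u g ≠ 0) : LinearIndepOn K id (Set.range u) := by
  classical
  refine linearIndepOn_of_finite _ fun t ht hfin => ?_
  induction t, hfin using Set.Finite.induction_on with
  | empty => exact linearIndepOn_empty K id
  | @insert v t hvt _ ih =>
    have ih := ih ((Set.subset_insert _ _).trans ht)
    refine ih.id_insert fun hv => ?_
    obtain ⟨g, rfl⟩ := ht (Set.mem_insert _ _)
    have hspan : Submodule.span K t = Submodule.span K (Set.range (Subtype.val : t → R)) := by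
      rw [Subtype.range_coe]
    rw [hspan] at hv
    have hi : LinearIndependent K (Subtype.val : t → R) := ih
    let c := hi.repr ⟨u g, hv⟩
    have hc : u g = c.sum fun j d => d • (j : R) := by
      have h := hi.linearCombination_repr ⟨u g, hv⟩
      rw [Finsupp.linearCombination_apply] at h
      exact h.symm
    have hz : ∀ i : t, c i = 0 := by
      intro i
      obtain ⟨d, hd⟩ := LinearMap.exists_extend ((Finsupp.lapply i).comp hi.repr)
      have hdj : ∀ j : t, d (j : R) = Finsupp.single j (1 : K) i := fun j => by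
        have h1 := LinearMap.congr_fun hd ⟨(j : R), Submodule.subset_span ⟨j, rfl⟩⟩
        simp only [LinearMap.comp_apply, Submodule.subtype_apply, Finsupp.lapply_apply] at h1
        rw [h1, hi.repr_eq_single j _ rfl]
      have hdv : d (u g) = c i := LinearMap.congr_fun hd ⟨u g, hv⟩
      let e : R ⊗[K] R →ₗ[K] R := (TensorProduct.lid K R).toLinearMap.comp (TensorProduct.map d LinearMap.id)
      have he : ∀ x y : R, e (x ⊗ₜ y) = d x • y := fun x y => by simp [e]
      have h2 : e (Δ (u g)) = c i • (i : R) := by
        have hj : ∀ (j : t) (a : K), e (Δ (a • (j : R))) = a • (Finsupp.single j (1 : K) i • (j : R)) := fun j a => by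
          obtain ⟨g', hg'⟩ := ht (Set.mem_insert_of_mem _ j.2)
          rw [map_smul, map_smul, ← hg', hΔ, he, hg', hdj]
        rw [hc, map_finsuppSum, map_finsuppSum, Finsupp.sum, Finset.sum_eq_single i]
        · rw [hj, Finsupp.single_eq_same, one_smul]
        · intro j _ hji
          rw [hj, Finsupp.single_eq_of_ne' hji, zero_smul, smul_zero]
        · intro hi'
          rw [hj, Finsupp.notMem_support_iff.1 hi', zero_smul]
      rw [hΔ, he, hdv] at h2
      by_contra hne
      exact hvt ((smul_right_injective R hne h2) ▸ i.2)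
    exact hu g (by rw [hc, show c = 0 from Finsupp.ext hz, Finsupp.sum_zero_index])

/-- The monoid algebra of the values of a group-like family embeds. -/
theorem lift_mrange_injective (u : G →* R) (h : LinearIndepOn K id (Set.range u)) :
    Function.Injective (MonoidAlgebra.lift K R (MonoidHom.mrange u) (MonoidHom.mrange u).subtype) := by
  rw [injective_iff_map_eq_zero]
  intro z hz
  rw [MonoidAlgebra.lift_apply] at hz
  let f : MonoidHom.mrange u → Set.range u := fun q => ⟨(q : R), MonoidHom.mem_mrange.1 q.2⟩
  have hf : Function.Injective f := fun q q' e => Subtype.ext (congrArg (fun w : Set.range u => (w : R)) e)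
  have hl : LinearIndependent K (fun q : MonoidHom.mrange u => (q : R)) := LinearIndependent.comp h f hf
  have h0 : z.coeff = 0 := linearIndependent_iff.1 hl _ (by rw [Finsupp.linearCombination_apply]; exact hz)
  exact MonoidAlgebra.coeff_injective (h0.trans MonoidAlgebra.coeff_zero.symm)

section Denominators

variable {k C L : Type u} [CommRing k] [CommRing C] [Field L] [Algebra k C] [Algebra k L]

/-- Clearing denominators in an extended ideal. -/
theorem exists_smul_mem (φ : C →ₐ[k] L) (hφ : Function.Injective φ)
    (hfrac : ∀ x : L, ∃ f c : C, φ f ≠ 0 ∧ φ f * x = φ c) (I : Ideal (MonoidAlgebra C G))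
    (x : MonoidAlgebra L G) (hx : x ∈ I.map (MonoidAlgebra.mapAlgHom G φ)) :
    ∃ f : C, φ f ≠ 0 ∧ ∃ i ∈ I, φ f • x = MonoidAlgebra.mapAlgHom G φ i := by
  classical
  set ι := MonoidAlgebra.mapAlgHom G φ with hι
  have hsm : ∀ (f : C) (y : MonoidAlgebra C G), ι (f • y) = φ f • ι y := fun f y =>
    MonoidAlgebra.ext (Finsupp.ext fun m => by simp [hι, MonoidAlgebra.coeff_mapAlgHom])
  have hadd : ∀ a b : MonoidAlgebra L G, (∃ f : C, φ f ≠ 0 ∧ ∃ i ∈ I, φ f • a = ι i) →
      (∃ f : C, φ f ≠ 0 ∧ ∃ i ∈ I, φ f • b = ι i) → ∃ f : C, φ f ≠ 0 ∧ ∃ i ∈ I, φ f • (a + b) = ι i := by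
    rintro a b ⟨f, hf, i, hi, e⟩ ⟨f', hf', i', hi', e'⟩
    refine ⟨f * f', by rw [map_mul]; exact mul_ne_zero hf hf', f' • i + f • i',
      I.add_mem (Submodule.smul_of_tower_mem I f' hi) (Submodule.smul_of_tower_mem I f hi'), ?_⟩
    rw [map_add, hsm, hsm, ← e, ← e', map_mul, smul_add, smul_smul, smul_smul, mul_comm (φ f') (φ f)]
  induction hx using Submodule.span_induction with
  | mem y hy =>
    obtain ⟨i, hi, rfl⟩ := hy
    exact ⟨1, by rw [map_one]; exact one_ne_zero, i, hi, by rw [map_one, one_smul]⟩
  | zero => exact ⟨1, by rw [map_one]; exact one_ne_zero, 0, I.zero_mem, by simp⟩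
  | add a b _ _ ha hb => exact hadd a b ha hb
  | smul r y _ hy =>
    rw [smul_eq_mul]
    induction r using MonoidAlgebra.induction_linear with
    | zero => exact ⟨1, by rw [map_one]; exact one_ne_zero, 0, I.zero_mem, by simp⟩
    | add a b ha hb => rw [add_mul]; exact hadd _ _ ha hb
    | single m a =>
      obtain ⟨f, hf, i, hi, e⟩ := hy
      obtain ⟨f', c, hf', hc⟩ := hfrac a
      refine ⟨f * f', by rw [map_mul]; exact mul_ne_zero hf hf', MonoidAlgebra.single m c * i,
        I.mul_mem_left _ hi, ?_⟩
      rw [map_mul, map_mul, hι, MonoidAlgebra.mapAlgHom_single, ← hι, ← hc, ← e, mul_comm (φ f) (φ f'),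
        ← smul_smul, ← mul_smul_comm, ← smul_mul_assoc, MonoidAlgebra.smul_single, smul_eq_mul]

end Denominators

end Groth.Agent.TorusStab19
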