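import Groth.Agent.Lib.DiagGL.Chars
import Groth.Agent.Lib.HomSch19.Sections
import Groth.Prelude.Def_ChGrp
import Mathlib.AlgebraicGeometry.Morphisms.ClosedImmersion
import Mathlib.AlgebraicGeometry.Morphisms.Separated

/-! # Points of a diagonalisable group fixing points of a separated scheme -/

set_option autoImplicit false
set_option linter.style.haveILetI false
set_option backward.isDefEq.respectTransparency.types false
set_option backward.isDefEq.respectTransparency false
universe u

open CategoryTheory Limits MonoidalCategory CartesianMonoidalCategory MonObj AlgebraicGeometry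
open CoactBr (sp pt)

noncomputable section

namespace Groth.Agent.TorusStab19

variable {k : Type u} [Field k] {T X : Over (Spec (CommRingCat.of k))}
variable {A B : Type u} [CommRing A] [CommRing B] [Algebra k A] [Algebra k B]

/-- The equaliser of two points with values in a separated scheme is cut out by an ideal. -/
theorem exists_equalizer_ideal [IsSeparated X.hom] (f g : sp k B ⟶ X) :
    ∃ I : Ideal B,
      (∀ (S : Over (Spec (CommRingCat.of k))) (s : S ⟶ sp k B), s ≫ f = s ≫ g → ∀ i ∈ I, DiagGL.ev s i = 0) ∧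
      (∀ (A : Type u) [CommRing A] [Algebra k A] (φ : B →ₐ[k] A),
        pt φ ≫ f = pt φ ≫ g ↔ I ≤ RingHom.ker φ.toRingHom) := by
  obtain ⟨I, e, he⟩ := (IsClosedImmersion.Spec_iff (R := CommRingCat.of B)
    (f := (equalizer.ι f g).left)).1 (isClosedImmersion_equalizer_ι_left f g)
  have key : ∀ (S : Over (Spec (CommRingCat.of k))) (s : S ⟶ sp k B), s ≫ f = s ≫ g →
      ∀ i ∈ I, DiagGL.ev s i = 0 := by
    intro S s hs i hi
    have h1 : s.left = ((equalizer.lift s hs).left ≫ e.hom) ≫
        Spec.map (CommRingCat.ofHom (Ideal.Quotient.mk I)) := by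
      rw [Category.assoc, ← he, ← Over.comp_left, equalizer.lift_ι]
    show ((Scheme.ΓSpecIso (CommRingCat.of B)).inv ≫ s.left.appTop).hom i = 0
    rw [h1, Scheme.Hom.comp_appTop, ← Category.assoc, ← Scheme.ΓSpecIso_inv_naturality,
      CommRingCat.hom_comp, CommRingCat.hom_comp, RingHom.comp_apply, RingHom.comp_apply,
      CommRingCat.hom_ofHom, Ideal.Quotient.eq_zero_iff_mem.2 hi, map_zero, map_zero]
  refine ⟨I, key, fun A _ _ φ => ⟨fun h i hi => ?_, fun h => ?_⟩⟩
  · have h1 := key _ (pt φ) h i hi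
    rw [DiagGL.ev_pt] at h1
    refine RingHom.mem_ker.2 ?_
    have h2 := congrArg (Scheme.ΓSpecIso (CommRingCat.of A)).hom h1
    rw [map_zero] at h2
    exact (ConcreteCategory.congr_hom (Scheme.ΓSpecIso (CommRingCat.of A)).inv_hom_id (φ i)).symm.trans h2
  · have h1 : (pt φ).left = (Spec.map (CommRingCat.ofHom (Ideal.Quotient.lift I φ.toRingHom fun a ha => RingHom.mem_ker.1 (h ha))) ≫ e.inv) ≫
        (equalizer.ι f g).left := by
      rw [he, Category.assoc, Iso.inv_hom_id_assoc, ← Spec.map_comp]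
      rfl
    refine Over.OverMorphism.ext ?_
    rw [Over.comp_left, Over.comp_left, h1, Category.assoc, Category.assoc, Category.assoc, Category.assoc,
      ← Over.comp_left, ← Over.comp_left, equalizer.condition]

variable [GrpObj T] {M : Type} [AddCommGroup M] (C : DiagGL.Chars M T)

/-- The point of `T` with given character values. -/
def tp (χ : Multiplicative M →* B) : sp k B ⟶ T :=
  (C.surj (T := sp k B)
    ((Scheme.ΓSpecIso (CommRingCat.of B)).inv.hom.toMonoidHom.comp χ)).choose

theorem ch_tp (χ : Multiplicative M →* B) (m : Multiplicative M) :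
    C.ch (tp C χ) m = (Scheme.ΓSpecIso (CommRingCat.of B)).inv (χ m) :=
  DFunLike.congr_fun (C.surj (T := sp k B)
    ((Scheme.ΓSpecIso (CommRingCat.of B)).inv.hom.toMonoidHom.comp χ)).choose_spec m

theorem ch_comp_tp (χ : Multiplicative M →* B) {S : Over (Spec (CommRingCat.of k))} (s : S ⟶ sp k B)
    (m : Multiplicative M) : C.ch (s ≫ tp C χ) m = DiagGL.ev s (χ m) := by
  rw [C.nat, ch_tp]
  rfl

theorem pt_tp (φ : B →ₐ[k] A) (χ : Multiplicative M →* B) :
    pt φ ≫ tp C χ = tp C ((φ : B →* A).comp χ) :=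
  C.inj fun m => by rw [ch_comp_tp, ch_tp, DiagGL.ev_pt]; rfl

theorem tp_mul (χ ψ : Multiplicative M →* B) : tp C (χ * ψ) = tp C χ * tp C ψ :=
  C.inj fun m => by simp only [C.mul, ch_tp, MonoidHom.mul_apply, map_mul]

theorem tp_one : tp C (1 : Multiplicative M →* B) = 1 :=
  C.inj fun m => by rw [ch_tp, C.one, MonoidHom.one_apply, map_one]

theorem eq_one_of_tp_eq_one {χ : Multiplicative M →* B} (h : tp C χ = 1) (m : Multiplicative M) : χ m = 1 := by
  have h1 := ch_tp C χ m
  rw [h, C.one] at h1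
  exact (Scheme.ΓSpecIso (CommRingCat.of B)).commRingCatIsoToRingEquiv.symm.injective
    (h1.symm.trans (map_one _).symm)

variable (a : AlgGrp.Action T X)

/-- The point `tp χ` fixes `x`. -/
def Fix (χ : Multiplicative M →* B) (x : sp k B ⟶ X) : Prop := lift (tp C χ) x ≫ a.act = x

variable {C a}

theorem Fix.map {χ : Multiplicative M →* B} {x : sp k B ⟶ X} (h : Fix C a χ x) (φ : B →ₐ[k] A) :
    Fix C a ((φ : B →* A).comp χ) (pt φ ≫ x) := by
  show lift _ _ ≫ a.act = pt φ ≫ x
  conv_rhs => rw [← h]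
  rw [← pt_tp, ← comp_lift, Category.assoc]

theorem Fix.mul {χ ψ : Multiplicative M →* B} {x : sp k B ⟶ X} (h : Fix C a χ x) (h' : Fix C a ψ x) :
    Fix C a (χ * ψ) x := by
  show lift _ _ ≫ a.act = x
  rw [tp_mul, AlgGrp.Action.lift_mul_act, h', h]

theorem Fix.one (x : sp k B ⟶ X) : Fix C a (1 : Multiplicative M →* B) x := by
  show lift _ _ ≫ a.act = x
  rw [tp_one, AlgGrp.Action.lift_one_act]

variable (C a)

/-- The fixing locus is cut out by an ideal. -/
theorem exists_fix_ideal [IsSeparated X.hom] (χ : Multiplicative M →* B) (x : sp k B ⟶ X) :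
    ∃ I : Ideal B,
      (∀ (S : Over (Spec (CommRingCat.of k))) (s : S ⟶ sp k B),
        lift (s ≫ tp C χ) (s ≫ x) ≫ a.act = s ≫ x → ∀ i ∈ I, DiagGL.ev s i = 0) ∧
      (∀ (A : Type u) [CommRing A] [Algebra k A] (φ : B →ₐ[k] A),
        Fix C a ((φ : B →* A).comp χ) (pt φ ≫ x) ↔ I ≤ RingHom.ker φ.toRingHom) := by
  obtain ⟨I, h1, h2⟩ := exists_equalizer_ideal (lift (tp C χ) x ≫ a.act) x
  refine ⟨I, fun S s hs => h1 S s ?_, fun A _ _ φ => Iff.trans ?_ (h2 A φ)⟩
  · rw [← Category.assoc, comp_lift]; exact hs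
  · rw [Fix, ← pt_tp, ← comp_lift, Category.assoc]

/-- Fixing descends along injective maps. -/
theorem Fix.of_injective [IsSeparated X.hom] {χ : Multiplicative M →* B} {x : sp k B ⟶ X} (φ : B →ₐ[k] A)
    (hφ : Function.Injective φ) (h : Fix C a ((φ : B →* A).comp χ) (pt φ ≫ x)) : Fix C a χ x := by
  obtain ⟨I, -, hI⟩ := exists_fix_ideal C a χ x
  have h0 : I ≤ RingHom.ker (AlgHom.id k B).toRingHom := fun i hi =>
    RingHom.mem_ker.2 ((injective_iff_map_eq_zero φ).1 hφ i ((hI A φ).1 h hi))
  have h1 := (hI B (AlgHom.id k B)).2 h0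
  rw [CoactBr.pt_id, Category.id_comp] at h1
  exact h1

section Chart

attribute [local instance] HomSch19.algW

variable (X) {V : X.left.Opens} (hV : IsAffineOpen V)

/-- An affine open as a point with values in its coordinate ring. -/
def chart : sp k Γ(X.left, V) ⟶ X :=
  Over.homMk hV.fromSpec (by
    show hV.fromSpec ≫ X.hom = Spec.map (CommRingCat.ofHom (algebraMap k Γ(X.left, V)))
    have h := IsAffineOpen.SpecMap_appLE_fromSpec X.hom (isAffineOpen_top _) hV (le_top : V ≤ X.hom ⁻¹ᵁ ⊤)
    rw [IsAffineOpen.fromSpec_top, Scheme.isoSpec_Spec_inv, ← Spec.map_comp] at h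
    exact h.symm)

theorem chart_left : (chart X hV).left = hV.fromSpec := rfl

/-- Points with image in an affine open factor through the chart. -/
theorem exists_chart_lift (x : sp k B ⟶ X) (h : ∀ p, x.left p ∈ V) :
    ∃ φ : Γ(X.left, V) →ₐ[k] B, x = pt φ ≫ chart X hV := by
  have hr : Set.range x.left ⊆ Set.range hV.fromSpec := by
    rw [hV.range_fromSpec]
    rintro _ ⟨p, rfl⟩
    exact h p
  obtain ⟨φ, hφ⟩ : ∃ φ : Γ(X.left, V) ⟶ CommRingCat.of B, Spec.map φ =
      IsOpenImmersion.lift hV.fromSpec x.left hr := ⟨_, Spec.map_preimage _⟩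
  have hx : Spec.map φ ≫ hV.fromSpec = x.left := by rw [hφ]; exact IsOpenImmersion.lift_fac _ _ _
  have hw : CommRingCat.ofHom (algebraMap k Γ(X.left, V)) ≫ φ = CommRingCat.ofHom (algebraMap k B) := by
    refine Spec.map_injective ?_
    rw [Spec.map_comp]
    have h1 : hV.fromSpec ≫ X.hom = Spec.map (CommRingCat.ofHom (algebraMap k Γ(X.left, V))) :=
      Over.w (chart X hV)
    rw [← h1, reassoc_of% hx]
    exact Over.w x
  exact ⟨{ φ.hom with commutes' := fun c => ConcreteCategory.congr_hom hw c }, Over.OverMorphism.ext hx.symm⟩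

end Chart

end Groth.Agent.TorusStab19
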