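import Groth.Agent.Lib.TorusStab19.Fix
import Groth.Agent.Lib.TorusStab19.Alg
import Mathlib.AlgebraicGeometry.FunctionField
import Mathlib.AlgebraicGeometry.Cover.Open

/-! # Faithful actions of diagonalisable groups: generic stabilisers are trivial -/

set_option autoImplicit false
set_option linter.style.haveILetI false
set_option backward.isDefEq.respectTransparency.types false
set_option backward.isDefEq.respectTransparency false
universe u

open CategoryTheory Limits MonoidalCategory CartesianMonoidalCategory MonObj AlgebraicGeometry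
open CoactBr (sp pt)
open scoped TensorProduct

noncomputable section

namespace Groth.Agent.TorusStab19

attribute [local instance] HomSch19.algW

section Helpers

variable {k A B : Type u} [CommSemiring k] [CommRing A] [CommRing B] [Algebra k A] [Algebra k B]
  {G : Type*} [CommMonoid G] (φ : A →ₐ[k] B)

theorem mapAlg_single (g : G) (c : A) :
    MonoidAlgebra.mapAlgHom G φ (MonoidAlgebra.single g c) = MonoidAlgebra.single g (φ c) :=
  MonoidAlgebra.mapAlgHom_single φ g c

theorem mapAlg_of (g : G) : MonoidAlgebra.mapAlgHom G φ (MonoidAlgebra.of A G g) = MonoidAlgebra.of B G g := by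
  simp

theorem mapAlg_smul (c : A) (y : MonoidAlgebra A G) :
    MonoidAlgebra.mapAlgHom G φ (c • y) = HSMul.hSMul (φ c : B) (MonoidAlgebra.mapAlgHom G φ y : MonoidAlgebra B G) :=
  MonoidAlgebra.ext (Finsupp.ext fun m => by
    rw [MonoidAlgebra.coeff_mapAlgHom, MonoidAlgebra.coeff_smul, MonoidAlgebra.coeff_smul, Finsupp.smul_apply,
      Finsupp.smul_apply, MonoidAlgebra.coeff_mapAlgHom, smul_eq_mul, smul_eq_mul, map_mul])

theorem mapAlg_singleOne (c : A) :
    MonoidAlgebra.mapAlgHom G φ ((MonoidAlgebra.singleOneAlgHom : A →ₐ[k] MonoidAlgebra A G) c) =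
      MonoidAlgebra.single 1 (φ c) :=
  MonoidAlgebra.mapAlgHom_single φ 1 c

theorem liftNC_singleOne (σ : G →* B) (c : A) :
    MonoidAlgebra.liftNCAlgHom φ σ (fun _ _ => Commute.all _ _) ((MonoidAlgebra.singleOneAlgHom : A →ₐ[k] MonoidAlgebra A G) c) = φ c := by
  simp [MonoidAlgebra.singleOneAlgHom]

/-- Product of two characters. -/
def mulChar {G R : Type*} [MulOneClass G] [CommSemiring R] (f g : G →* R) : G →* R := f * g

theorem mulChar_apply {G R : Type*} [MulOneClass G] [CommSemiring R] (f g : G →* R) (x : G) :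
    mulChar f g x = f x * g x := rfl

end Helpers

variable {k : Type u} [Field k] {T : Over (Spec (CommRingCat.of k))}
  (X : Over (Spec (CommRingCat.of k))) [IsIntegral X.left]

/-- The function field as an algebra. -/
@[implicit_reducible]
def funAlg : Algebra k X.left.functionField :=
  (Spec.preimage (X.left.fromSpecStalk (genericPoint X.left) ≫ X.hom)).hom.toAlgebra

attribute [local instance] funAlg

/-- The generic point. -/
def genPt : sp k X.left.functionField ⟶ X :=
  Over.homMk (X.left.fromSpecStalk (genericPoint X.left)) (by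
    show X.left.fromSpecStalk (genericPoint X.left) ≫ X.hom = Spec.map (CommRingCat.ofHom (algebraMap k X.left.functionField))
    exact (Spec.map_preimage _).symm)

theorem genPt_apply (p : (sp k X.left.functionField).left) : (genPt X).left p = genericPoint X.left := by
  haveI : Subsingleton (Spec (CommRingCat.of X.left.functionField) : Scheme.{u}) :=
    inferInstanceAs (Subsingleton (PrimeSpectrum X.left.functionField))
  rw [show p = IsLocalRing.closedPoint X.left.functionField from
    Subsingleton.elim (α := (Spec (CommRingCat.of X.left.functionField) : Scheme.{u})) _ _]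
  exact Scheme.fromSpecStalk_closedPoint

theorem exists_germHom {V : X.left.Opens} (hV : IsAffineOpen V) (hne : Nonempty V) :
    ∃ φ : Γ(X.left, V) →ₐ[k] X.left.functionField, genPt X = pt φ ≫ chart X hV ∧ Function.Injective φ ∧
      ∀ y : X.left.functionField, ∃ f c : Γ(X.left, V), φ f ≠ 0 ∧ φ f * y = φ c := by
  have hη : genericPoint X.left ∈ V :=
    ((genericPoint_spec X.left).mem_open_set_iff V.isOpen).2 (by obtain ⟨⟨p, hp⟩⟩ := hne; exact ⟨p, trivial, hp⟩)
  obtain ⟨φ, hφ⟩ := exists_chart_lift X hV (genPt X) fun p => by rw [genPt_apply]; exact hη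
  have h1 : Spec.map (CommRingCat.ofHom φ.toRingHom) ≫ hV.fromSpec =
      Spec.map (X.left.presheaf.germ V (genericPoint X.left) hη) ≫ hV.fromSpec :=
    ((congrArg (fun m => CommaMorphism.left m) hφ).symm.trans
      (hV.fromSpecStalk_eq_fromSpecStalk hη).symm)
  have h2 : ∀ c, φ c = X.left.presheaf.germ V (genericPoint X.left) hη c := fun c =>
    ConcreteCategory.congr_hom (Spec.map_injective ((cancel_mono hV.fromSpec).1 h1)) c
  have hinj : Function.Injective φ := fun c c' h => by
    rw [h2, h2] at h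
    exact germ_injective_of_isIntegral _ _ hη h
  refine ⟨φ, hφ, hinj, fun y => ?_⟩
  haveI := hne
  haveI : IsFractionRing Γ(X.left, V) X.left.functionField := functionField_isFractionRing_of_isAffineOpen X.left V hV
  obtain ⟨⟨c, f⟩, hc⟩ := IsLocalization.surj (nonZeroDivisors Γ(X.left, V)) y
  refine ⟨f, c, fun h => nonZeroDivisors.coe_ne_zero f (hinj (h.trans (map_zero φ).symm)), ?_⟩
  rw [h2, h2, mul_comm]
  exact hc

variable {X} [GrpObj T] {M : Type} [AddCommGroup M] (C : DiagGL.Chars M T) (a : AlgGrp.Action T X)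

/-- A faithful action admits no nontrivial point fixing the generic point. -/
theorem eq_one_of_fix_genPt [IsSeparated X.hom]
    (hfaith : ∀ (S : Over (Spec (CommRingCat.of k))) (g : S ⟶ T),
      (∀ (S' : Over (Spec (CommRingCat.of k))) (s : S' ⟶ S) (x : S' ⟶ X), lift (s ≫ g) x ≫ a.act = x) → g = 1)
    {Q : Type u} [CommMonoid Q] (χ : Multiplicative M →* MonoidAlgebra k Q)
    (h : Fix C a ((MonoidAlgebra.mapAlgHom Q (Algebra.ofId k X.left.functionField) :
        MonoidAlgebra k Q →* MonoidAlgebra X.left.functionField Q).comp χ)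
      (pt (MonoidAlgebra.singleOneAlgHom : X.left.functionField →ₐ[k] MonoidAlgebra X.left.functionField Q) ≫ genPt X))
    (m : Multiplicative M) : χ m = 1 := by
  refine eq_one_of_tp_eq_one C (hfaith _ (tp C χ) fun S' s x => Over.OverMorphism.ext ?_) m
  have key : ∀ p : S'.left, ∃ W : S'.left.Opens, p ∈ W ∧
      W.ι ≫ (lift (s ≫ tp C χ) x ≫ a.act).left = W.ι ≫ x.left := by
    intro p
    obtain ⟨V, hV, hxV, -⟩ := exists_isAffineOpen_mem_and_subset (X := X.left) (x := x.left p) (U := ⊤) trivial
    obtain ⟨W, hW, hpW, hWV⟩ := exists_isAffineOpen_mem_and_subset (X := S'.left) (x := p) (U := x.left ⁻¹ᵁ V) hxV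
    refine ⟨W, hpW, ?_⟩
    let j : sp k Γ(S'.left, W) ⟶ S' := chart S' hW
    obtain ⟨ψ, hψ⟩ := exists_chart_lift X hV (j ≫ x) fun q => by
      have hq : hW.fromSpec q ∈ W := by
        rw [← SetLike.mem_coe, ← hW.range_fromSpec]; exact Set.mem_range_self q
      exact hWV hq
    obtain ⟨σ, hσ⟩ : ∃ σ : MonoidAlgebra k Q →ₐ[k] Γ(S'.left, W), j ≫ s = pt σ := by
      obtain ⟨σ, hσ⟩ : ∃ σ : CommRingCat.of (MonoidAlgebra k Q) ⟶ Γ(S'.left, W), Spec.map σ = (j ≫ s).left :=
        ⟨_, Spec.map_preimage _⟩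
      have hw : CommRingCat.ofHom (algebraMap k (MonoidAlgebra k Q)) ≫ σ = CommRingCat.ofHom (algebraMap k Γ(S'.left, W)) := by
        refine Spec.map_injective ?_
        rw [Spec.map_comp, hσ]
        exact Over.w (j ≫ s)
      exact ⟨{ σ.hom with commutes' := fun c => ConcreteCategory.congr_hom hw c }, Over.OverMorphism.ext hσ.symm⟩
    obtain ⟨φV, hφ, hinj, -⟩ := exists_germHom X hV ⟨⟨_, hxV⟩⟩
    let jm := MonoidAlgebra.mapAlgHom Q φV
    have hι : Function.Injective jm := fun y y' e => MonoidAlgebra.ext (Finsupp.ext fun q => hinj (by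
      have e' := congrArg (fun w => w.coeff q) e
      simpa [jm, MonoidAlgebra.coeff_mapAlgHom] using e'))
    have huniv : Fix C a ((MonoidAlgebra.mapAlgHom Q (Algebra.ofId k Γ(X.left, V)) :
          MonoidAlgebra k Q →* MonoidAlgebra Γ(X.left, V) Q).comp χ)
        (pt (MonoidAlgebra.singleOneAlgHom : Γ(X.left, V) →ₐ[k] MonoidAlgebra Γ(X.left, V) Q) ≫ chart X hV) := by
      refine Fix.of_injective C a jm hι ?_
      have e1 : jm.comp (MonoidAlgebra.mapAlgHom Q (Algebra.ofId k Γ(X.left, V))) =
          MonoidAlgebra.mapAlgHom Q (Algebra.ofId k X.left.functionField) :=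
        AlgHom.ext fun y => MonoidAlgebra.ext (Finsupp.ext fun q => by simp [jm, MonoidAlgebra.coeff_mapAlgHom])
      have e2 : jm.comp (MonoidAlgebra.singleOneAlgHom : Γ(X.left, V) →ₐ[k] _) =
          (MonoidAlgebra.singleOneAlgHom : X.left.functionField →ₐ[k] _).comp φV :=
        AlgHom.ext fun c => by simp [jm, MonoidAlgebra.singleOneAlgHom, MonoidAlgebra.mapAlgHom_single]
      rw [← Category.assoc, ← CoactBr.pt_comp, e2, CoactBr.pt_comp, Category.assoc, ← hφ, ← MonoidHom.comp_assoc]
      rw [← e1] at h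
      exact h
    let Φ : MonoidAlgebra Γ(X.left, V) Q →ₐ[k] Γ(S'.left, W) :=
      MonoidAlgebra.liftNCAlgHom ψ ((σ : MonoidAlgebra k Q →* Γ(S'.left, W)).comp (MonoidAlgebra.of k Q))
        fun _ _ => Commute.all _ _
    have e1 : Φ.comp (MonoidAlgebra.mapAlgHom Q (Algebra.ofId k Γ(X.left, V))) = σ :=
      MonoidAlgebra.algHom_ext' (MonoidHom.ext fun q => by simp [Φ]) (Subsingleton.elim _ _)
    have e2 : Φ.comp (MonoidAlgebra.singleOneAlgHom : Γ(X.left, V) →ₐ[k] _) = ψ :=
      AlgHom.ext fun c => liftNC_singleOne ψ _ c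
    have hfin := huniv.map Φ
    rw [← Category.assoc, ← CoactBr.pt_comp, e2, ← hψ, ← MonoidHom.comp_assoc] at hfin
    have h4 : ((Φ : MonoidAlgebra Γ(X.left, V) Q →* Γ(S'.left, W)).comp (MonoidAlgebra.mapAlgHom Q (Algebra.ofId k Γ(X.left, V)) :
          MonoidAlgebra k Q →* MonoidAlgebra Γ(X.left, V) Q)) = (σ : MonoidAlgebra k Q →* Γ(S'.left, W)) := by
      rw [← e1]; rfl
    rw [h4, Fix, ← pt_tp, ← hσ, Category.assoc, ← comp_lift, Category.assoc] at hfin
    have h3 := congrArg (fun m => CommaMorphism.left m) hfin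
    simp only [Over.comp_left] at h3
    change hW.fromSpec ≫ _ = hW.fromSpec ≫ _ at h3
    rw [← hW.isoSpec_inv_ι, Category.assoc] at h3
    exact (cancel_epi hW.isoSpec.inv).1 (by simpa only [j, chart_left, ← hW.isoSpec_inv_ι, Category.assoc, Over.comp_left] using h3)
  choose W hpW hWeq using key
  refine (S'.left.openCoverOfIsOpenCover W (TopologicalSpace.IsOpenCover.mk ?_)).hom_ext _ _ fun p => hWeq p
  exact top_le_iff.1 fun p _ => TopologicalSpace.Opens.mem_iSup.2 ⟨p, hpW p⟩

/-- The characters are trivial on the generic stabiliser, after clearing denominators on a chart. -/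
theorem exists_open_fix_trivial [IsSeparated X.hom]
    (hfaith : ∀ (S : Over (Spec (CommRingCat.of k))) (g : S ⟶ T),
      (∀ (S' : Over (Spec (CommRingCat.of k))) (s : S' ⟶ S) (x : S' ⟶ X), lift (s ≫ g) x ≫ a.act = x) → g = 1)
    (F : Finset (Multiplicative M)) :
    ∃ U : X.left.Opens, Dense (U : Set X.left) ∧
      ∀ x : 𝟙_ (Over (Spec (CommRingCat.of k))) ⟶ X, x.left (IsLocalRing.closedPoint k) ∈ U →
        ∀ (S : Over (Spec (CommRingCat.of k))) (g : S ⟶ T),
          lift g (toUnit S ≫ x) ≫ a.act = toUnit S ≫ x → ∀ m ∈ F, C.ch g m = 1 := by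
  classical
  obtain ⟨V, hV, hηV, -⟩ := exists_isAffineOpen_mem_and_subset (X := X.left) (x := genericPoint X.left) (U := ⊤) trivial
  haveI hne : Nonempty V := ⟨⟨_, hηV⟩⟩
  obtain ⟨φ, hφ, hinj, hfrac⟩ := exists_germHom X hV hne
  let A := MonoidAlgebra Γ(X.left, V) (Multiplicative M)
  let jm := MonoidAlgebra.mapAlgHom (Multiplicative M) φ
  let incl : Γ(X.left, V) →ₐ[k] A := MonoidAlgebra.singleOneAlgHom
  obtain ⟨I, hIS, hI⟩ := exists_fix_ideal C a (MonoidAlgebra.of Γ(X.left, V) (Multiplicative M))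
    (pt incl ≫ chart X hV)
  let J := I.map jm
  have hJ : ∀ (B : Type u) [CommRing B] [Algebra k B] [Algebra X.left.functionField B] [IsScalarTower k X.left.functionField B]
      (ψ : MonoidAlgebra X.left.functionField (Multiplicative M) →ₐ[X.left.functionField] B),
      Fix C a ((ψ : MonoidAlgebra X.left.functionField (Multiplicative M) →* B).comp (MonoidAlgebra.of X.left.functionField (Multiplicative M)))
        (pt (IsScalarTower.toAlgHom k X.left.functionField B) ≫ genPt X) ↔ J ≤ RingHom.ker ψ.toRingHom := by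
    intro B _ _ _ _ ψ
    let φB : A →ₐ[k] B := (ψ.restrictScalars k).comp jm
    have e1 : (φB : A →* B).comp (MonoidAlgebra.of Γ(X.left, V) (Multiplicative M)) =
        (ψ : MonoidAlgebra X.left.functionField (Multiplicative M) →* B).comp (MonoidAlgebra.of X.left.functionField (Multiplicative M)) :=
      MonoidHom.ext fun m => congrArg ψ (mapAlg_of φ m)
    have e2 : φB.comp incl = (IsScalarTower.toAlgHom k X.left.functionField B).comp φ :=
      AlgHom.ext fun c => by
        exact (congrArg ψ (mapAlg_singleOne φ c)).trans (ψ.commutes (φ c))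
    rw [← e1, hφ, ← Category.assoc, ← CoactBr.pt_comp, ← e2, CoactBr.pt_comp, Category.assoc, hI B φB,
      Ideal.map_le_iff_le_comap]
    rfl
  let R := MonoidAlgebra X.left.functionField (Multiplicative M) ⧸ J
  let mkR : MonoidAlgebra X.left.functionField (Multiplicative M) →ₐ[X.left.functionField] R := Ideal.Quotient.mkₐ X.left.functionField J
  let u : Multiplicative M →* R := (mkR : MonoidAlgebra X.left.functionField (Multiplicative M) →* R).comp (MonoidAlgebra.of X.left.functionField _)
  have hR : Fix C a u (pt (IsScalarTower.toAlgHom k X.left.functionField R) ≫ genPt X) :=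
    (hJ R mkR).2 fun y hy => RingHom.mem_ker.2 (Ideal.Quotient.eq_zero_iff_mem.2 hy)
  -- counit
  have hu0 : ∀ m, u m ≠ 0 := by
    intro m hm
    let ε := MonoidAlgebra.lift X.left.functionField X.left.functionField (Multiplicative M) 1
    have hε : J ≤ RingHom.ker ε.toRingHom := (hJ X.left.functionField ε).1 (by
      rw [show ((ε : MonoidAlgebra X.left.functionField (Multiplicative M) →* X.left.functionField).comp (MonoidAlgebra.of X.left.functionField _)) = 1 from
        MonoidHom.ext fun m => MonoidAlgebra.lift_of _ m]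
      exact Fix.one _)
    have h1 := RingHom.mem_ker.1 (hε (Ideal.Quotient.eq_zero_iff_mem.1 hm))
    rw [show ε.toRingHom (MonoidAlgebra.of X.left.functionField _ m) = 1 from MonoidAlgebra.lift_of _ m] at h1
    exact one_ne_zero h1
  -- comultiplication
  let iL : R →ₐ[X.left.functionField] R ⊗[X.left.functionField] R := Algebra.TensorProduct.includeLeft
  let iR : R →ₐ[X.left.functionField] R ⊗[X.left.functionField] R := Algebra.TensorProduct.includeRight
  let ΔP := MonoidAlgebra.lift X.left.functionField (R ⊗[X.left.functionField] R) (Multiplicative M)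
    (mulChar (R := R ⊗[X.left.functionField] R) ((iL : R →* R ⊗[X.left.functionField] R).comp u) ((iR : R →* R ⊗[X.left.functionField] R).comp u))
  have hΔ : J ≤ RingHom.ker ΔP.toRingHom := (hJ (R ⊗[X.left.functionField] R) ΔP).1 (by
    rw [show ((ΔP : MonoidAlgebra X.left.functionField (Multiplicative M) →* R ⊗[X.left.functionField] R).comp (MonoidAlgebra.of X.left.functionField _)) =
      mulChar (R := R ⊗[X.left.functionField] R) ((iL : R →* R ⊗[X.left.functionField] R).comp u) ((iR : R →* R ⊗[X.left.functionField] R).comp u) from MonoidHom.ext fun m => MonoidAlgebra.lift_of _ m]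
    have h1 := hR.map (A := R ⊗[X.left.functionField] R) (iL.restrictScalars k)
    have h2 := hR.map (A := R ⊗[X.left.functionField] R) (iR.restrictScalars k)
    rw [← Category.assoc, ← CoactBr.pt_comp,
      show (iL.restrictScalars k).comp (IsScalarTower.toAlgHom k X.left.functionField R) = IsScalarTower.toAlgHom k X.left.functionField (R ⊗[X.left.functionField] R) from
        AlgHom.ext fun c => iL.commutes c] at h1
    rw [← Category.assoc, ← CoactBr.pt_comp,
      show (iR.restrictScalars k).comp (IsScalarTower.toAlgHom k X.left.functionField R) = IsScalarTower.toAlgHom k X.left.functionField (R ⊗[X.left.functionField] R) from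
        AlgHom.ext fun c => iR.commutes c] at h2
    exact h1.mul h2)
  let Δ : R →ₐ[X.left.functionField] R ⊗[X.left.functionField] R := Ideal.Quotient.liftₐ J ΔP fun y hy => RingHom.mem_ker.1 (hΔ hy)
  have hΔu : ∀ m, Δ (u m) = u m ⊗ₜ u m := fun m => by
    show ΔP (MonoidAlgebra.of X.left.functionField _ m) = _
    rw [MonoidAlgebra.lift_of, mulChar_apply]
    simp [iL, iR, Algebra.TensorProduct.tmul_mul_tmul]
  have hβ := lift_mrange_injective u (linearIndepOn_range_of_grouplike u Δ hΔu hu0)
  let β := MonoidAlgebra.lift X.left.functionField R (MonoidHom.mrange u) (MonoidHom.mrange u).subtype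
  let η' := MonoidAlgebra.lift X.left.functionField (MonoidAlgebra X.left.functionField (MonoidHom.mrange u)) (Multiplicative M)
    ((MonoidAlgebra.of X.left.functionField (MonoidHom.mrange u)).comp u.mrangeRestrict)
  have hβη : β.comp η' = mkR := MonoidAlgebra.algHom_ext' (MonoidHom.ext fun m => by
    simp [β, η', u]) (Subsingleton.elim _ _)
  have hη' : J ≤ RingHom.ker η'.toRingHom := fun y hy => RingHom.mem_ker.2 (hβ (by
    rw [map_zero]
    exact (AlgHom.congr_fun hβη y).trans (Ideal.Quotient.eq_zero_iff_mem.2 hy)))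
  have hu1 : ∀ m, u m = 1 := by
    have hQ := (hJ _ η').2 hη'
    have h1 := eq_one_of_fix_genPt C a hfaith (Q := MonoidHom.mrange u)
      ((MonoidAlgebra.of k (MonoidHom.mrange u)).comp u.mrangeRestrict) (by
        convert hQ using 2
        · exact MonoidHom.ext fun m => by simp [η', MonoidAlgebra.mapAlgHom_single]
        · congr 1)
    intro m
    have h2 := MonoidAlgebra.of_injective (R := k) ((h1 m).trans (map_one _).symm)
    exact congrArg Subtype.val h2
  -- denominators
  have hden : ∀ m, ∃ f : Γ(X.left, V), φ f ≠ 0 ∧ f • (MonoidAlgebra.of _ _ m - 1) ∈ I := by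
    intro m
    have hm : MonoidAlgebra.of X.left.functionField (Multiplicative M) m - 1 ∈ J := by
      rw [← Ideal.Quotient.eq_zero_iff_mem, map_sub, map_one]
      exact sub_eq_zero.2 (hu1 m)
    obtain ⟨f, hf, i, hi, e⟩ := exists_smul_mem φ hinj hfrac I _ hm
    refine ⟨f, hf, ?_⟩
    have hι : Function.Injective jm := fun y y' e => MonoidAlgebra.ext (Finsupp.ext fun q => hinj (by
      have e' := congrArg (fun w => w.coeff q) e
      simpa [jm, MonoidAlgebra.coeff_mapAlgHom] using e'))
    have e' : jm (f • (MonoidAlgebra.of _ _ m - 1)) = jm i := by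
      rw [← e]
      refine MonoidAlgebra.ext (Finsupp.ext fun q => ?_)
      simp [jm, MonoidAlgebra.coeff_mapAlgHom, MonoidAlgebra.one_def, MonoidAlgebra.coeff_single, Finsupp.single_apply, apply_ite φ]
    exact hι e' ▸ hi
  choose f hf hfI using hden
  have hf0 : φ (∏ m ∈ F, f m) ≠ 0 := by
    rw [map_prod]; exact Finset.prod_ne_zero_iff.2 fun m _ => hf m
  refine ⟨X.left.basicOpen (∏ m ∈ F, f m), (X.left.basicOpen _).isOpen.dense ?_, ?_⟩
  · by_contra hempty
    have h0 : X.left.basicOpen (∏ m ∈ F, f m) = ⊥ :=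
      TopologicalSpace.Opens.ext (Set.not_nonempty_iff_eq_empty.1 hempty)
    rw [basicOpen_eq_bot_iff] at h0
    exact hf0 (by rw [h0, map_zero])
  intro x hx S g hg m hm
  letI := (DiagGL.alg S).toAlgebra
  let e0 : sp k k ⟶ 𝟙_ (Over (Spec (CommRingCat.of k))) := toUnit _
  have hsub : Subsingleton (Spec (CommRingCat.of k) : Scheme.{u}) := inferInstanceAs (Subsingleton (PrimeSpectrum k))
  have hpt : ∀ p, (e0 ≫ x).left p = x.left (IsLocalRing.closedPoint k) := fun p => by
    show x.left (e0.left p) = _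
    congr 1
    exact hsub.elim _ _
  obtain ⟨ψ, hψ⟩ := exists_chart_lift X hV (e0 ≫ x) fun p => by
    rw [hpt]; exact X.left.basicOpen_le _ hx
  have hψf : ψ (∏ m ∈ F, f m) ≠ 0 := by
    have h1 : IsLocalRing.closedPoint k ∈ (e0 ≫ x).left ⁻¹ᵁ X.left.basicOpen (∏ m ∈ F, f m) := by
      exact ((hpt _).symm ▸ hx : (e0 ≫ x).left (IsLocalRing.closedPoint k) ∈ X.left.basicOpen (∏ m ∈ F, f m))
    rw [hψ] at h1
    change (Spec.map (CommRingCat.ofHom ψ.toRingHom)) (IsLocalRing.closedPoint k) ∈
      hV.fromSpec ⁻¹ᵁ X.left.basicOpen _ at h1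
    rw [hV.fromSpec_preimage_basicOpen] at h1
    intro h0
    apply h1
    show ψ _ ∈ IsLocalRing.maximalIdeal k
    rw [h0]; exact zero_mem _
  let Φ : A →ₐ[k] MonoidAlgebra k (Multiplicative M) := MonoidAlgebra.mapAlgHom _ ψ
  let θ := MonoidAlgebra.lift k Γ(S.left, ⊤) (Multiplicative M) (C.ch g)
  let s₀ : S ⟶ sp k (MonoidAlgebra k (Multiplicative M)) := DiagGL.mk θ.toRingHom fun r => θ.commutes r
  have hg' : (s₀ ≫ pt Φ) ≫ tp C (MonoidAlgebra.of _ _) = g := by
    rw [Category.assoc, pt_tp]
    refine C.inj fun m' => ?_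
    rw [ch_comp_tp, DiagGL.ev_mk]
    exact (congrArg θ (mapAlg_of ψ m')).trans (MonoidAlgebra.lift_of _ _)
  have huniq : ∀ t t' : S ⟶ sp k k, t = t' := fun t t' => Over.OverMorphism.ext (by
    have hi : Spec.map (CommRingCat.ofHom (algebraMap k k)) = 𝟙 _ := Spec.map_id _
    have h1 := Over.w t
    have h2 := Over.w t'
    change t.left ≫ Spec.map _ = _ at h1
    change t'.left ≫ Spec.map _ = _ at h2
    erw [hi, Category.comp_id] at h1 h2
    exact h1.trans h2.symm)
  have hx' : (s₀ ≫ pt Φ) ≫ pt incl ≫ chart X hV = toUnit S ≫ x := by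
    have h1 : Φ.comp incl = (Algebra.ofId k _).comp ψ := AlgHom.ext fun c => mapAlg_singleOne ψ c
    rw [Category.assoc, ← Category.assoc (pt Φ), ← CoactBr.pt_comp, h1, CoactBr.pt_comp, Category.assoc,
      ← hψ, ← Category.assoc, ← Category.assoc, toUnit_unique ((s₀ ≫ _) ≫ e0) (toUnit S)]
  have hker := hIS S (s₀ ≫ pt Φ) (by rw [hg', hx']; exact hg) _
    (Submodule.smul_of_tower_mem I (∏ m' ∈ F.erase m, f m') (hfI m))
  rw [smul_smul, Finset.prod_erase_mul F f hm] at hker
  have h2 : DiagGL.ev (s₀ ≫ pt Φ) ((∏ m ∈ F, f m) • (MonoidAlgebra.of _ _ m - 1)) =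
      θ (Φ ((∏ m ∈ F, f m) • (MonoidAlgebra.of _ _ m - 1))) := by
    rw [DiagGL.ev_comp, DiagGL.ev_pt]
    exact congrFun (congrArg DFunLike.coe (DiagGL.ev_mk θ.toRingHom fun r => θ.commutes r)) _
  rw [h2] at hker
  have h3 : θ (Φ ((∏ m ∈ F, f m) • (MonoidAlgebra.of _ _ m - 1))) = ψ (∏ m ∈ F, f m) • (C.ch g m - 1) := by
    rw [show Φ ((∏ m ∈ F, f m) • (MonoidAlgebra.of Γ(X.left, V) _ m - 1)) =
      ψ (∏ m ∈ F, f m) • (MonoidAlgebra.of k _ m - 1) by
        rw [show Φ = MonoidAlgebra.mapAlgHom _ ψ from rfl, mapAlg_smul, map_sub, map_one, mapAlg_of]]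
    rw [map_smul, map_sub, map_one, show θ (MonoidAlgebra.of k _ m) = C.ch g m from MonoidAlgebra.lift_of _ _]
  rw [h3] at hker
  exact sub_eq_zero.1 ((IsUnit.smul_eq_zero (Ne.isUnit hψf)).1 hker)

end Groth.Agent.TorusStab19
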